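import Cfsg.Agent.H584.S8.HeRL

/-!
# S4908, the Held group: large subgroups contain a conjugate of a standard element of order 5, 7 or 17 (helper219)
-/

set_option autoImplicit false
set_option maxRecDepth 100000

namespace Cfsg.Agent.H219.S8.He

open Subgroup Cfsg.Agent.SporadicB.HePerm Cfsg.Agent.FixBN.HeStab Cfsg.Agent.KFacts.He.Lv Cfsg.Agent.CpAutHe.Cnt
open Cfsg.Agent.H19.Odd Cfsg.Agent.H19.Odd.HeEl Cfsg.Agent.H19.Odd.HeCnt
open Cfsg.Agent.H968.Gen.He (X17)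
open Cfsg.Agent.H584.S8.He (RL)
open Cfsg.Agent.H147.Fpr.He (G cardG finG orderOf_wd)
open Cfsg.Agent.H547.SelfCent.HeRow (ne_one_of_act)

theorem card_eq : Nat.card G = 4030387200 := cardG

/-- `a` has a conjugate in `T` -/
def In (T : Subgroup G) (a : G) : Prop := ∃ g : G, g * a * g⁻¹ ∈ T

theorem in_of_zpowers {T : Subgroup G} {b y g : G} (hb : b ∈ T) (h : zpowers (g * b * g⁻¹) = zpowers y) : In T y := by
  have h1 : y ∈ zpowers (g * b * g⁻¹) := by rw [h]; exact mem_zpowers y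
  obtain ⟨n, hn⟩ := mem_zpowers_iff.1 h1
  refine ⟨g⁻¹, ?_⟩
  rw [← hn, conj_zpow, inv_inv]
  have e : g⁻¹ * (g * b ^ n * g⁻¹) * g = b ^ n := by group
  rw [e]
  exact T.zpow_mem hb n

theorem in_of_conj {T : Subgroup G} {y z g : G} (h : g * y * g⁻¹ = z) (hy : In T y) : In T z := by
  obtain ⟨k, hk⟩ := hy
  refine ⟨k * g⁻¹, ?_⟩
  rw [← h]
  have e : k * g⁻¹ * (g * y * g⁻¹) * (k * g⁻¹)⁻¹ = k * y * k⁻¹ := by group
  rw [e]
  exact hk

/-- order 7 -/
theorem seven {T : Subgroup G} {b : G} (hb : orderOf b = 7) (hbT : b ∈ T) : ∃ a ∈ RL, In T a := by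
  have := finG
  have h7 : Fact (Nat.Prime 7) := ⟨by norm_num⟩
  obtain ⟨y, hy, g, hg⟩ := Heis.reps3 C_pow U7_pow V7_pow C_U7 C_V7 U7_V7 (by norm_num) C_ne (not_dvd (by decide)) hb
  have hT := in_of_zpowers hbT hg
  rcases hy with rfl | rfl | ⟨i, hi, rfl⟩
  · exact ⟨_, by simp [RL], hT⟩
  · exact ⟨_, by simp [RL], hT⟩
  · rw [← wd_pw, ← wd_append] at hT
    interval_cases i
    · exact ⟨wd XC, by simp [RL], in_of_conj g70 hT⟩
    · exact ⟨wd (V7 ++ pw U7 1), by simp [RL], hT⟩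
    · exact ⟨wd (V7 ++ pw U7 2), by simp [RL], hT⟩
    · exact ⟨wd XC, by simp [RL], in_of_conj g73 hT⟩
    · exact ⟨wd (V7 ++ pw U7 4), by simp [RL], hT⟩
    · exact ⟨wd XC, by simp [RL], in_of_conj g75 hT⟩
    · exact ⟨wd (V7 ++ pw U7 6), by simp [RL], hT⟩

/-- order 5 -/
theorem five {T : Subgroup G} {b : G} (hb : orderOf b = 5) (hbT : b ∈ T) : ∃ a ∈ RL, In T a := by
  have := finG
  obtain ⟨u, hu⟩ := Cfsg.Agent.H436.HeFive.exists_conj hb
  have h5 : Nat.Prime 5 := by norm_num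
  refine ⟨wd Cfsg.Agent.H436.HeFive.X, by simp [RL], in_of_zpowers (g := u) hbT ?_⟩
  apply Subgroup.eq_of_le_of_card_ge
  · rw [zpowers_le]; exact hu
  · have h1 : orderOf (u * b * u⁻¹) = 5 := by rw [← MulAut.conj_apply, MulEquiv.orderOf_eq, hb]
    rw [Nat.card_zpowers, Nat.card_zpowers, Cfsg.Agent.H436.HeFive.orderX, h1]

/-- order 17 -/
theorem seventeen {T : Subgroup G} {b : G} (hb : orderOf b = 17) (hbT : b ∈ T) : ∃ a ∈ RL, In T a := by
  have := finG
  have hp : Fact (Nat.Prime 17) := ⟨by norm_num⟩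
  have ho : orderOf (wd X17 : G) = 17 :=
    orderOf_wd (by norm_num) (by decide +kernel) (ne_one_of_act 0 (by decide +kernel))
  have hQ : IsPGroup 17 ↥(zpowers (wd X17 : G)) := IsPGroup.of_card (n := 1) (by rw [Nat.card_zpowers, ho, pow_one])
  obtain ⟨g, hg⟩ := Heis.conj_mem (n := 1) hQ (by rw [Nat.card_zpowers, ho, pow_one]) (not_dvd (by decide)) hb
  refine ⟨wd X17, by simp [RL], in_of_zpowers (g := g) hbT ?_⟩
  apply Subgroup.eq_of_le_of_card_ge
  · rw [zpowers_le]; exact hg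
  · have h1 : orderOf (g * b * g⁻¹) = 17 := by rw [← MulAut.conj_apply, MulEquiv.orderOf_eq, hb]
    rw [Nat.card_zpowers, Nat.card_zpowers, ho, h1]

theorem dvd_27648 {m : ℕ} (h : m ∣ 4030387200) (h5 : ¬ 5 ∣ m) (h7 : ¬ 7 ∣ m) (h17 : ¬ 17 ∣ m) : m ∣ 27648 := by
  have c5 : Nat.Coprime m (5 ^ 2) := Nat.Coprime.pow_right 2 ((Nat.Prime.coprime_iff_not_dvd (by norm_num)).2 h5).symm
  have c7 : Nat.Coprime m (7 ^ 3) := Nat.Coprime.pow_right 3 ((Nat.Prime.coprime_iff_not_dvd (by norm_num)).2 h7).symm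
  have c17 : Nat.Coprime m 17 := ((Nat.Prime.coprime_iff_not_dvd (by norm_num)).2 h17).symm
  have e : 4030387200 = 27648 * 5 ^ 2 * 7 ^ 3 * 17 := by norm_num
  rw [e] at h
  exact c5.dvd_of_dvd_mul_right (c7.dvd_of_dvd_mul_right (c17.dvd_of_dvd_mul_right h))

/-- **(B)** -/
theorem hT (T : Subgroup Cfsg.Spor.He)
    (h : Nat.card Cfsg.Spor.He < 2 * (Nat.card T * Nat.card (ConjClasses T))) :
    T.index ≤ 89779 ∧ ∃ a ∈ RL, ∃ g : Cfsg.Spor.He, g * a * g⁻¹ ∈ T := by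
  have := finG
  have hc : Nat.card Cfsg.Spor.He = 4030387200 := card_eq
  have hk : Nat.card (ConjClasses T) ≤ Nat.card T :=
    Nat.card_le_card_of_surjective (ConjClasses.mk : T → ConjClasses T) ConjClasses.mk_surjective
  have hTT : 4030387200 < 2 * (Nat.card T * Nat.card T) := by
    rw [hc] at h
    exact lt_of_lt_of_le h (Nat.mul_le_mul_left _ (Nat.mul_le_mul_left _ hk))
  have hbig : 44891 ≤ Nat.card T := by
    by_contra hlt
    have hle : Nat.card T ≤ 44890 := by omega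
    have := Nat.mul_le_mul hle hle
    omega
  have hmul := T.card_mul_index
  rw [hc] at hmul
  have hi : T.index ≤ 89781 := by
    by_contra hlt
    have hge : 89782 ≤ T.index := by omega
    have := Nat.mul_le_mul hbig hge
    omega
  have hid : T.index ∣ 4030387200 := ⟨Nat.card T, by rw [mul_comm]; exact hmul.symm⟩
  refine ⟨?_, ?_⟩
  · by_contra hlt
    have : T.index = 89780 ∨ T.index = 89781 := by omega
    rcases this with h' | h' <;> rw [h'] at hid <;> revert hid <;> decide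
  · have hd : Nat.card T ∣ 4030387200 := ⟨T.index, hmul.symm⟩
    by_cases h5 : 5 ∣ Nat.card T
    · have hf : Fact (Nat.Prime 5) := ⟨by norm_num⟩
      obtain ⟨b, hb⟩ := exists_prime_orderOf_dvd_card' 5 h5
      exact five (b := (b : G)) (by rw [Subgroup.orderOf_coe, hb]) b.2
    by_cases h7 : 7 ∣ Nat.card T
    · have hf : Fact (Nat.Prime 7) := ⟨by norm_num⟩
      obtain ⟨b, hb⟩ := exists_prime_orderOf_dvd_card' 7 h7
      exact seven (b := (b : G)) (by rw [Subgroup.orderOf_coe, hb]) b.2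
    by_cases h17 : 17 ∣ Nat.card T
    · have hf : Fact (Nat.Prime 17) := ⟨by norm_num⟩
      obtain ⟨b, hb⟩ := exists_prime_orderOf_dvd_card' 17 h17
      exact seventeen (b := (b : G)) (by rw [Subgroup.orderOf_coe, hb]) b.2
    exfalso
    have h1 := Nat.le_of_dvd (by norm_num) (dvd_27648 hd h5 h7 h17)
    omega

end Cfsg.Agent.H219.S8.He
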